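import Cfsg.Agent.PermTab.J2AData

/-!
# Automorphisms of J2: checks (owner: helper7)
-/

set_option autoImplicit false

namespace Cfsg.Agent.J2Tab

open Cfsg.Agent.PermTab MulAction

theorem x0_ok : tvalid 7 100 x0 = true ∧ sift 7 100 idt chain x0 = true := by decide +kernel
theorem y0_ok : tvalid 7 100 y0 = true ∧ sift 7 100 idt chain y0 = true := by decide +kernel
theorem y1_ok : tvalid 7 100 y1 = true ∧ sift 7 100 idt chain y1 = true := by decide +kernel
theorem nn_ok : tvalid 7 100 nn = true ∧ sift 7 100 idt chain nn = true := by decide +kernel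
theorem tau_ok : tvalid 7 100 tau = true ∧ tvalid 7 100 taui = true ∧ tmul 7 100 tau taui = idt := by decide +kernel
theorem x03_ok : tvalid 7 100 x03 = true ∧ tmul 7 100 x0 (tmul 7 100 x0 x0) = x03 := by decide +kernel
theorem x0_pow : tpow 7 100 x0 7 = tid 7 100 := by decide +kernel
theorem x0_ne : tget 7 x0 0 ≠ 0 ∨ tget 7 x0 1 ≠ 1 ∨ tget 7 x0 2 ≠ 2 := by decide +kernel
theorem nn_rel : tmul 7 100 nn x0 = tmul 7 100 x03 nn := by decide +kernel
theorem tau_x0 : tcomm 7 100 tau x0 = true := by decide +kernel
theorem tau_y0 : tmul 7 100 tau y0 = tmul 7 100 y1 tau := by decide +kernel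
theorem tau_g0 : sift 7 100 idt chain (tmul 7 100 tau (tmul 7 100 g0 taui)) = true ∧
    sift 7 100 idt chain (tmul 7 100 tau (tmul 7 100 g1 taui)) = true := by decide +kernel
theorem progX_ok : chkProg 7 100 x0 progX [y0, x0] [g0, g1] = true := by decide +kernel
theorem xpow_ok : lall xpow (fun x => match tvalid 7 100 x with
  | false => false
  | true => match sift 7 100 idt chain x with
    | false => false
    | true => tcomm 7 100 x x0) = true := by decide +kernel

/-- closure of the class under `g0`, `g1` -/
theorem cls_ok : nall (fun i => atLeaf (findT clsT i) fun u a b _ _ => match tvalid 7 100 u with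
  | false => false
  | true => match Nat.blt a 315 with
    | false => false
    | true => match Nat.blt b 315 with
      | false => false
      | true => match atLeaf (findT clsT a) (fun v _ _ _ _ => Nat.beq (tmul 7 100 g0 u) (tmul 7 100 v g0)) with
        | false => false
        | true => atLeaf (findT clsT b) (fun v _ _ _ _ => Nat.beq (tmul 7 100 g1 u) (tmul 7 100 v g1))) 315 = true := by
  decide +kernel

theorem cls_tt : atLeaf (findT clsT clsI) (fun u _ _ _ _ => Nat.beq u tt) = true := by decide +kernel
theorem cls_y0 : atLeaf (findT clsT clsY) (fun u _ _ _ _ => Nat.beq u y0) = true := by decide +kernel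

/-- the elements of the class with `(x0^3 y)^5 = 1` -/
theorem cls_test : nall (fun i => atLeaf (findT clsT i) fun u _ _ _ _ => match walkT 7 5 32 [0, 1, 2, 37] x03 u with
  | false => true
  | true => lany xpow fun x => Nat.beq (tmul 7 100 x y0) (tmul 7 100 u x) || Nat.beq (tmul 7 100 x y1) (tmul 7 100 u x)) 315 = true := by
  decide +kernel

theorem y0_rel : walkT 7 5 32 [0, 1, 2, 37] x03 y0 = true := by decide +kernel

theorem tau_pt : tget 7 tau pt14 < 100 ∧ pt14 < 100 ∧ (fun x => tget 7 tau x)^[7] pt14 ≠ pt14 ∧ (fun x => tget 7 tau x)^[8] pt14 ≠ pt14 ∧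
    (fun x => tget 7 tau x)^[10] pt14 ≠ pt14 ∧ (fun x => tget 7 tau x)^[12] pt14 ≠ pt14 ∧
    (fun x => tget 7 tau x)^[15] pt14 ≠ pt14 := by decide +kernel

theorem nofix : nall (fun x => match Nat.beq x 0 with
  | true => true
  | false => lany lev1.gens fun g => match Nat.beq (tget 7 g x) x with
    | true => false
    | false => true) 100 = true := by decide +kernel

end Cfsg.Agent.J2Tab
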