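import Cfsg.Agent.PermTab.J2A

/-!
# The outer automorphism group of J2 has order 2 (owner: helper7)
-/

set_option autoImplicit false

namespace Cfsg.Agent.J2Tab

open Cfsg.Agent.PermTab MulAction
open scoped Pointwise

theorem finJ : Finite J := Nat.finite_of_card_ne_zero (by rw [card_J]; norm_num)

/-- element of `J` from a table -/
noncomputable def el {h : ℕ} (H : tvalid 7 100 h = true ∧ sift 7 100 idt chain h = true) : J :=
  ⟨toPerm 7 100 h, mem_of_sift (by norm_num) hid chk H.1 H.2⟩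

/-- generators -/
noncomputable def X0 : J := el x0_ok
noncomputable def Y0 : J := el y0_ok
noncomputable def Y1 : J := el y1_ok
noncomputable def NN : J := el nn_ok
/-- the central involution -/
noncomputable def TT : J := ⟨t0, CC_le (UU_le (RR_le t0_mem))⟩

theorem x03_eq : toPerm 7 100 x03 = toPerm 7 100 x0 ^ 3 := by
  rw [← x03_ok.2, toPerm_tmul x0_ok.1 (tvalid_tmul x0_ok.1 x0_ok.1), toPerm_tmul x0_ok.1 x0_ok.1]
  rw [pow_succ', pow_two]

theorem X0_pow : X0 ^ 7 = 1 := by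
  apply Subtype.ext
  show toPerm 7 100 x0 ^ 7 = 1
  exact toPerm_pow_eq_one (by norm_num) x0_ok.1 x0_pow

theorem X0_ne : X0 ≠ 1 := by
  intro h
  have h1 : toPerm 7 100 x0 = 1 := congrArg Subtype.val h
  have key : ∀ x : Fin 100, tget 7 x0 x = x := by
    intro x
    rw [← toPerm_apply x0_ok.1, h1]; rfl
  rcases x0_ne with h | h | h
  · exact h (key 0)
  · exact h (key 1)
  · exact h (key 2)

theorem orderOf_X0 : orderOf X0 = 7 := by
  have : Fact (Nat.Prime 7) := ⟨by norm_num⟩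
  exact orderOf_eq_prime X0_pow X0_ne

theorem NN_rel : NN * X0 * NN⁻¹ = X0 ^ 3 := by
  rw [mul_inv_eq_iff_eq_mul]
  apply Subtype.ext
  show toPerm 7 100 nn * toPerm 7 100 x0 = toPerm 7 100 x0 ^ 3 * toPerm 7 100 nn
  rw [← toPerm_tmul nn_ok.1 x0_ok.1, nn_rel, toPerm_tmul x03_ok.1 nn_ok.1, x03_eq]

theorem closure_XY : Subgroup.closure {X0, Y0} = ⊤ := by
  rw [eq_top_iff]
  have hX : InGrp 7 100 ((Subgroup.closure {X0, Y0}).map J.subtype) x0 :=
    ⟨x0_ok.1, ⟨X0, Subgroup.subset_closure (by simp), rfl⟩⟩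
  have hY : InGrp 7 100 ((Subgroup.closure {X0, Y0}).map J.subtype) y0 :=
    ⟨y0_ok.1, ⟨Y0, Subgroup.subset_closure (by simp), rfl⟩⟩
  have h := inGrp_of_chkProg progX_ok hX (by
    intro t ht
    rcases List.mem_cons.1 ht with rfl | ht
    · exact hY
    · rcases List.mem_cons.1 ht with rfl | ht
      · exact hX
      · exact absurd ht List.not_mem_nil)
  have h2 : J ≤ (Subgroup.closure {X0, Y0}).map J.subtype := by
    conv_lhs => rw [← gen_J]
    rw [Subgroup.closure_le]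
    rintro _ ⟨g, hg, rfl⟩
    exact (h g hg).2
  intro x _
  obtain ⟨y, hy, he⟩ := h2 x.2
  have : y = x := Subtype.ext he
  rwa [this] at hy

/-! ### The class -/

/-- table of an entry -/
noncomputable def cu (i : ℕ) : ℕ := Tr.rec (motive := fun _ => ℕ) 0 (fun u _ _ _ _ => u) (fun _ _ _ _ => 0) (findT clsT i)

theorem cu_eq {i u a b c d : ℕ} (h : findT clsT i = Tr.leaf u a b c d) : cu i = u := by unfold cu; rw [h]

theorem cls_spec {i : ℕ} (hi : i < 315) : tvalid 7 100 (cu i) = true ∧ (∃ a < 315, tmul 7 100 g0 (cu i) = tmul 7 100 (cu a) g0) ∧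
    (∃ b < 315, tmul 7 100 g1 (cu i) = tmul 7 100 (cu b) g1) := by
  have h := (nall_iff _ _).1 cls_ok i hi
  rw [atLeaf_iff] at h
  obtain ⟨u, a, b, c, d, h1, h2⟩ := h
  rw [cu_eq h1]
  split at h2
  · exact absurd h2 Bool.false_ne_true
  rename_i hu
  split at h2
  · exact absurd h2 Bool.false_ne_true
  rename_i ha
  split at h2
  · exact absurd h2 Bool.false_ne_true
  rename_i hb
  split at h2
  · exact absurd h2 Bool.false_ne_true
  rename_i h3
  rw [atLeaf_iff] at h3 h2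
  obtain ⟨v, _, _, _, _, e1, e2⟩ := h3
  obtain ⟨v', _, _, _, _, e3, e4⟩ := h2
  rw [Nat.blt_eq] at ha hb
  exact ⟨hu, ⟨a, ha, by rw [cu_eq e1]; exact Nat.eq_of_beq_eq_true e2⟩, ⟨b, hb, by rw [cu_eq e3]; exact Nat.eq_of_beq_eq_true e4⟩⟩

/-- the class as a set of permutations -/
def Cls : Set (Equiv.Perm (Fin 100)) := {σ | ∃ i < 315, σ = toPerm 7 100 (cu i)}

theorem Cls_finite : Cls.Finite := by
  have : Cls ⊆ (fun i => toPerm 7 100 (cu i)) '' (Set.Iio 315) := by
    rintro σ ⟨i, hi, rfl⟩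
    exact ⟨i, hi, rfl⟩
  exact ((Set.finite_Iio 315).image _).subset this

/-- stabiliser of the class -/
def ClsStab : Subgroup (Equiv.Perm (Fin 100)) where
  carrier := {g | ∀ σ, σ ∈ Cls ↔ g * σ * g⁻¹ ∈ Cls}
  one_mem' := by intro σ; simp
  mul_mem' := by
    intro a b ha hb σ
    rw [hb σ, ha (b * σ * b⁻¹)]
    have : a * (b * σ * b⁻¹) * a⁻¹ = a * b * σ * (a * b)⁻¹ := by group
    rw [this]
  inv_mem' := by
    intro a ha σ
    rw [ha (a⁻¹ * σ * a⁻¹⁻¹)]
    have : a * (a⁻¹ * σ * a⁻¹⁻¹) * a⁻¹ = σ := by group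
    rw [this]

theorem mem_ClsStab {g : Equiv.Perm (Fin 100)} (h : ∀ σ ∈ Cls, g * σ * g⁻¹ ∈ Cls) : g ∈ ClsStab := by
  intro σ
  refine ⟨h σ, fun hσ => ?_⟩
  have h1 : Set.MapsTo (fun σ => g * σ * g⁻¹) Cls Cls := h
  have hinj : Function.Injective (fun σ : Equiv.Perm (Fin 100) => g * σ * g⁻¹) := by
    intro a b hab
    exact mul_left_cancel (mul_right_cancel hab)
  have h2 : (fun σ => g * σ * g⁻¹) '' Cls = Cls :=
    Set.eq_of_subset_of_ncard_le h1.image_subset (by rw [Set.ncard_image_of_injective _ hinj]) Cls_finite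
  rw [← h2] at hσ
  obtain ⟨ρ, hρ, he⟩ := hσ
  rw [← hinj he]; exact hρ

theorem J_le_ClsStab : J ≤ ClsStab := by
  rw [← gen_J, Subgroup.closure_le]
  rintro _ ⟨g, hg, rfl⟩
  have hv : ∀ g ∈ [g0, g1], tvalid 7 100 g = true := by decide +kernel
  apply mem_ClsStab
  rintro _ ⟨i, hi, rfl⟩
  obtain ⟨hu, ⟨a, ha, ea⟩, ⟨b, hb, eb⟩⟩ := cls_spec hi
  rcases List.mem_cons.1 hg with rfl | hg'
  · refine ⟨a, ha, ?_⟩
    rw [mul_inv_eq_iff_eq_mul, ← toPerm_tmul (hv _ hg) hu, ea, toPerm_tmul (cls_spec ha).1 (hv _ hg)]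
  · rcases List.mem_cons.1 hg' with rfl | hg'
    · refine ⟨b, hb, ?_⟩
      rw [mul_inv_eq_iff_eq_mul, ← toPerm_tmul (hv _ hg) hu, eb, toPerm_tmul (cls_spec hb).1 (hv _ hg)]
    · exact absurd hg' List.not_mem_nil

theorem t0_Cls : t0 ∈ Cls := by
  have h := cls_tt
  rw [atLeaf_iff] at h
  obtain ⟨u, _, _, _, _, e1, e2⟩ := h
  exact ⟨clsI, by norm_num, by rw [cu_eq e1, Nat.eq_of_beq_eq_true e2]; rfl⟩

theorem conj_Cls {g : Equiv.Perm (Fin 100)} (hg : g ∈ J) : g * t0 * g⁻¹ ∈ Cls := (J_le_ClsStab hg t0).1 t0_Cls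

/-- key enumeration -/
theorem cls_key {σ : J} (hσ : (σ : Equiv.Perm (Fin 100)) ∈ Cls) (h5 : (X0 ^ 3 * σ) ^ 5 = 1) :
    ∃ x : J, x * X0 = X0 * x ∧ (x * Y0 * x⁻¹ = σ ∨ x * Y1 * x⁻¹ = σ) := by
  obtain ⟨i, hi, e⟩ := hσ
  have h := (nall_iff _ _).1 cls_test i hi
  rw [atLeaf_iff] at h
  obtain ⟨u, a, b, c, d, h1, h2⟩ := h
  have hu := (cls_spec hi).1
  rw [cu_eq h1] at e hu
  have h5' : (toPerm 7 100 x03 * toPerm 7 100 u) ^ 5 = 1 := by
    rw [x03_eq, ← e]
    exact congrArg Subtype.val h5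
  have hw : walkT 7 5 32 [0, 1, 2, 37] x03 u = true := by
    have h3 : (retAll (fun x => tget 7 x03 (tget 7 u x)) 5 [0, 1, 2, 37] 32).testBit 5 = true := by
      apply retAll_conv _ _ _ _ _ (by norm_num) le_rfl (by decide)
      intro b hb
      have hb' : b < 100 := by
        rcases List.mem_cons.1 hb with rfl | hb
        · norm_num
        · rcases List.mem_cons.1 hb with rfl | hb
          · norm_num
          · rcases List.mem_cons.1 hb with rfl | hb
            · norm_num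
            · rcases List.mem_cons.1 hb with rfl | hb
              · norm_num
              · exact absurd hb List.not_mem_nil
      have h4 := iterate_tab (w := 7) (g := toPerm 7 100 x03 * toPerm 7 100 u) (f := fun x => tget 7 x03 (tget 7 u x)) (fun x => by
        show tget 7 x03 (tget 7 u x) = ((toPerm 7 100 x03 (toPerm 7 100 u x) : Fin 100) : ℕ)
        rw [toPerm_apply x03_ok.1, toPerm_apply hu]) 5 ⟨b, hb'⟩
      rw [h5'] at h4
      exact h4.symm
    unfold walkT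
    split
    · rename_i h6
      rw [Nat.eq_of_beq_eq_true h6] at h3
      simp at h3
    · rfl
  rw [hw] at h2
  simp only at h2
  rw [lany_iff] at h2
  obtain ⟨x, hx, h7⟩ := h2
  have h8 := (lall_iff _ _).1 xpow_ok x hx
  split at h8
  · exact absurd h8 Bool.false_ne_true
  rename_i hxv
  split at h8
  · exact absurd h8 Bool.false_ne_true
  rename_i hxs
  refine ⟨el ⟨hxv, hxs⟩, ?_, ?_⟩
  · apply Subtype.ext
    exact (tcomm_iff hxv x0_ok.1).1 h8
  · rw [Bool.or_eq_true] at h7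
    rcases h7 with h7 | h7
    · left
      rw [mul_inv_eq_iff_eq_mul]
      apply Subtype.ext
      show toPerm 7 100 x * toPerm 7 100 y0 = (σ : Equiv.Perm (Fin 100)) * toPerm 7 100 x
      rw [e, ← toPerm_tmul hxv y0_ok.1, Nat.eq_of_beq_eq_true h7, toPerm_tmul hu hxv]
    · right
      rw [mul_inv_eq_iff_eq_mul]
      apply Subtype.ext
      show toPerm 7 100 x * toPerm 7 100 y1 = (σ : Equiv.Perm (Fin 100)) * toPerm 7 100 x
      rw [e, ← toPerm_tmul hxv y1_ok.1, Nat.eq_of_beq_eq_true h7, toPerm_tmul hu hxv]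

/-! ### Sylow arguments -/

/-- the Sylow 2-subgroup -/
theorem exists_sylow2 : ∃ P : Sylow 2 J, ∀ x : J, x ∈ (P : Subgroup J) ↔ (x : Equiv.Perm (Fin 100)) ∈ UU := by
  have : Finite J := finJ
  have : Fact (Nat.Prime 2) := ⟨Nat.prime_two⟩
  have hc : Nat.card (UU.subgroupOf J) = 2 ^ 7 := by
    rw [Nat.card_congr (Subgroup.subgroupOfEquivOfLe (UU_le.trans CC_le)).toEquiv, card_UU]; norm_num
  obtain ⟨P, hP⟩ := (IsPGroup.of_card hc).exists_le_sylow
  refine ⟨P, fun x => ?_⟩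
  have h : (P : Subgroup J) = UU.subgroupOf J := by
    symm
    apply Subgroup.eq_of_le_of_card_ge hP
    rw [hc]
    obtain ⟨a, ha⟩ := P.2.exists_card_eq
    have h1 : Nat.card (P : Subgroup J) ∣ Nat.card J := Subgroup.card_subgroup_dvd_card _
    rw [card_J, ha] at h1
    rw [ha]
    have h2 : (604800 : ℕ) = 2 ^ 7 * 4725 := by norm_num
    rw [h2] at h1
    have h3 : Nat.Coprime (2 ^ a) 4725 := Nat.Coprime.pow_left _ (by norm_num)
    exact Nat.le_of_dvd (by norm_num) (h3.dvd_of_dvd_mul_right h1)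
  rw [h]; rfl

theorem TT_conj (α : MulAut J) : ∃ g : J, g * α TT * g⁻¹ = TT := by
  have : Finite J := finJ
  have : Fact (Nat.Prime 2) := ⟨Nat.prime_two⟩
  obtain ⟨P, hP⟩ := exists_sylow2
  obtain ⟨g, hg⟩ := exists_smul_eq J (α • P) P
  have hmem : ∀ x : J, x ∈ P → g * α x * g⁻¹ ∈ P := by
    intro x hx
    have h1 : α x ∈ α • P := by
      show α x ∈ ((α • P : Sylow 2 J) : Subgroup J)
      rw [Sylow.pointwise_smul_def]
      exact ⟨x, hx, rfl⟩
    have h2 : g * α x * g⁻¹ ∈ g • (α • P) := by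
      rw [Sylow.smul_def]
      exact ⟨α x, h1, rfl⟩
    rwa [hg] at h2
  have hmem' : ∀ y : J, y ∈ P → ∃ x ∈ P, g * α x * g⁻¹ = y := by
    intro y hy
    rw [← hg, Sylow.smul_def] at hy
    obtain ⟨z, hz, rfl⟩ := hy
    have hz' : z ∈ ((α • P : Sylow 2 J) : Subgroup J) := hz
    rw [Sylow.pointwise_smul_def] at hz'
    obtain ⟨x, hx, rfl⟩ := hz'
    exact ⟨x, hx, rfl⟩
  have hT : TT ∈ P := (hP TT).2 (RR_le t0_mem)
  refine ⟨g, ?_⟩
  have h1 : ((g * α TT * g⁻¹ : J) : Equiv.Perm (Fin 100)) ∈ UU := (hP _).1 (hmem TT hT)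
  have h2 : ∀ u ∈ UU, u * ((g * α TT * g⁻¹ : J) : Equiv.Perm (Fin 100)) = ((g * α TT * g⁻¹ : J) : Equiv.Perm (Fin 100)) * u := by
    intro u hu
    obtain ⟨x, hx, hxe⟩ := hmem' ⟨u, (UU_le.trans CC_le) hu⟩ ((hP _).2 hu)
    have h3 : x * TT = TT * x := by
      apply Subtype.ext
      exact comm_t0 (UU_le ((hP x).1 hx))
    have h4 : (g * α x * g⁻¹) * (g * α TT * g⁻¹) = (g * α TT * g⁻¹) * (g * α x * g⁻¹) := by
      have e1 : (g * α x * g⁻¹) * (g * α TT * g⁻¹) = g * α (x * TT) * g⁻¹ := by rw [map_mul]; group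
      have e2 : (g * α TT * g⁻¹) * (g * α x * g⁻¹) = g * α (TT * x) * g⁻¹ := by rw [map_mul]; group
      rw [e1, e2, h3]
    rw [hxe] at h4
    exact congrArg Subtype.val h4
  rcases cenU h1 h2 with h | h
  · exfalso
    have h3 : g * α TT * g⁻¹ = 1 := Subtype.ext h
    have h4 : α TT = 1 := by
      have : α TT = g⁻¹ * (g * α TT * g⁻¹) * g := by group
      rw [this, h3]; group
    have h5 : TT = 1 := by
      rw [← map_one α] at h4
      exact α.injective h4
    exact t0_ne (congrArg Subtype.val h5)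
  · exact Subtype.ext h

/-- automorphisms preserve the class -/
theorem aut_Cls (α : MulAut J) {y : J} (hy : ∃ g : J, g * TT * g⁻¹ = y) : ((α y : J) : Equiv.Perm (Fin 100)) ∈ Cls := by
  obtain ⟨g, rfl⟩ := hy
  obtain ⟨h, hh⟩ := TT_conj α
  have h1 : α TT = h⁻¹ * (h * α TT * h⁻¹) * h := by group
  rw [hh] at h1
  have h2 : α (g * TT * g⁻¹) = (α g * h⁻¹) * TT * (α g * h⁻¹)⁻¹ := by
    rw [map_mul, map_mul, map_inv, h1]; group
  rw [h2]
  exact conj_Cls (α g * h⁻¹).2

/-- conjugates `tt` to `y0` -/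
abbrev yc : ℕ := 0x8a0664b5340bbe5829a8e46d823764a199511709d8803d05387657df8876438b4428b9620e6b0370aea7bc85554956cfbc82fe39624508e212783cfc094e565aec146c2ad155ae91ebac660d4e3219734a401305163248d

theorem yc_ok : tvalid 7 100 yc = true ∧ sift 7 100 idt chain yc = true := by decide +kernel
theorem yc_rel : tmul 7 100 yc tt = tmul 7 100 y0 yc := by decide +kernel

theorem Y0_conj : ∃ g : J, g * TT * g⁻¹ = Y0 := by
  refine ⟨el yc_ok, ?_⟩
  rw [mul_inv_eq_iff_eq_mul]
  apply Subtype.ext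
  show toPerm 7 100 yc * toPerm 7 100 tt = toPerm 7 100 y0 * toPerm 7 100 yc
  rw [← toPerm_tmul yc_ok.1 tt_valid, yc_rel, toPerm_tmul y0_ok.1 yc_ok.1]

theorem X0_conj (x : J) (hx : orderOf x = 7) : ∃ g : J, g * x * g⁻¹ = X0 := by
  have : Finite J := finJ
  have : Fact (Nat.Prime 7) := ⟨by norm_num⟩
  have hc : ∀ y : J, orderOf y = 7 → ∃ P : Sylow 7 J, (P : Subgroup J) = Subgroup.zpowers y := by
    intro y hy
    have h1 : Nat.card (Subgroup.zpowers y) = 7 ^ 1 := by rw [Nat.card_zpowers, hy, pow_one]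
    obtain ⟨P, hP⟩ := (IsPGroup.of_card h1).exists_le_sylow
    refine ⟨P, ?_⟩
    symm
    apply Subgroup.eq_of_le_of_card_ge hP
    rw [h1]
    obtain ⟨a, ha⟩ := P.2.exists_card_eq
    have h2 : Nat.card (P : Subgroup J) ∣ Nat.card J := Subgroup.card_subgroup_dvd_card _
    rw [card_J, ha] at h2
    rw [ha]
    have h3 : (604800 : ℕ) = 7 ^ 1 * 86400 := by norm_num
    rw [h3] at h2
    have h4 : Nat.Coprime (7 ^ a) 86400 := Nat.Coprime.pow_left _ (by norm_num)
    exact Nat.le_of_dvd (by norm_num) (h4.dvd_of_dvd_mul_right h2)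
  obtain ⟨P, hP⟩ := hc x hx
  obtain ⟨Q, hQ⟩ := hc X0 orderOf_X0
  obtain ⟨g, hg⟩ := exists_smul_eq J P Q
  have h1 : g * x * g⁻¹ ∈ Subgroup.zpowers X0 := by
    rw [← hQ, ← hg]
    have h2 : x ∈ P := by
      show x ∈ (P : Subgroup J)
      rw [hP]; exact Subgroup.mem_zpowers x
    show g * x * g⁻¹ ∈ g • P
    rw [Sylow.smul_def]
    exact ⟨x, h2, rfl⟩
  obtain ⟨k, hk⟩ := Subgroup.mem_zpowers_iff.1 h1
  -- reduce the exponent
  have h7 : X0 ^ (k % 7).toNat = g * x * g⁻¹ := by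
    rw [← hk, ← zpow_natCast, Int.toNat_of_nonneg (Int.emod_nonneg _ (by norm_num))]
    have := zpow_mod_orderOf X0 k
    rw [orderOf_X0] at this
    exact this
  set m := (k % 7).toNat with hm
  have hm7 : m < 7 := by
    have h8 := Int.emod_lt_of_pos k (by norm_num : (0 : ℤ) < 7)
    have h9 := Int.emod_nonneg k (by norm_num : (7 : ℤ) ≠ 0)
    omega
  have hm0 : m ≠ 0 := by
    intro h0
    rw [h0, pow_zero] at h7
    have : x = 1 := by
      have e : x = g⁻¹ * (g * x * g⁻¹) * g := by group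
      rw [e, ← h7]; group
    rw [this, orderOf_one] at hx
    norm_num at hx
  -- powers of the normalising element
  have hN : ∀ j : ℕ, NN ^ j * X0 * (NN ^ j)⁻¹ = X0 ^ (3 ^ j) := by
    intro j
    induction j with
    | zero => simp
    | succ j ih =>
      have e : NN ^ (j + 1) * X0 * (NN ^ (j + 1))⁻¹ = NN * (NN ^ j * X0 * (NN ^ j)⁻¹) * NN⁻¹ := by
        rw [pow_succ']; group
      rw [e, ih]
      have e2 : NN * X0 ^ 3 ^ j * NN⁻¹ = (NN * X0 * NN⁻¹) ^ 3 ^ j := by rw [conj_pow]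
      rw [e2, NN_rel, ← pow_mul, pow_succ']
  have hfin : ∀ j : ℕ, (3 ^ j) % 7 = m → ∃ g : J, g * x * g⁻¹ = X0 := by
    intro j hj
    refine ⟨(NN ^ j)⁻¹ * g, ?_⟩
    have e : (NN ^ j)⁻¹ * g * x * ((NN ^ j)⁻¹ * g)⁻¹ = (NN ^ j)⁻¹ * (g * x * g⁻¹) * NN ^ j := by group
    rw [e, ← h7]
    have e3 : X0 ^ m = X0 ^ (3 ^ j) := by
      rw [← hj]
      have := pow_mod_orderOf X0 (3 ^ j)
      rw [orderOf_X0] at this
      exact this
    rw [e3, ← hN]; group
  interval_cases m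
  · exact absurd rfl hm0
  · exact hfin 0 (by norm_num)
  · exact hfin 2 (by norm_num)
  · exact hfin 1 (by norm_num)
  · exact hfin 4 (by norm_num)
  · exact hfin 5 (by norm_num)
  · exact hfin 3 (by norm_num)

/-! ### The outer automorphism -/

theorem taui_eq : toPerm 7 100 taui = (toPerm 7 100 tau)⁻¹ := by
  obtain ⟨h1, h2, h3⟩ := tau_ok
  have h4 := congrArg (toPerm 7 100) h3
  rw [toPerm_tmul h1 h2, hid, (toPerm_tid (by norm_num)).2] at h4
  exact (inv_eq_of_mul_eq_one_right h4).symm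

theorem tau_norm {g : Equiv.Perm (Fin 100)} (hg : g ∈ J) : toPerm 7 100 tau * g * (toPerm 7 100 tau)⁻¹ ∈ J := by
  obtain ⟨h1, h2, h3⟩ := tau_ok
  have hv : ∀ g ∈ [g0, g1], tvalid 7 100 g = true := by decide +kernel
  have key : ∀ g ∈ [g0, g1], toPerm 7 100 tau * toPerm 7 100 g * (toPerm 7 100 tau)⁻¹ ∈ J := by
    intro g hg
    have e : toPerm 7 100 tau * toPerm 7 100 g * (toPerm 7 100 tau)⁻¹ = toPerm 7 100 (tmul 7 100 tau (tmul 7 100 g taui)) := by
      rw [toPerm_tmul h1 (tvalid_tmul (hv g hg) h2), toPerm_tmul (hv g hg) h2, taui_eq, mul_assoc]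
    rw [e]
    apply mem_of_sift (by norm_num) hid chk (tvalid_tmul h1 (tvalid_tmul (hv g hg) h2))
    rcases List.mem_cons.1 hg with rfl | hg'
    · exact tau_g0.1
    · rcases List.mem_cons.1 hg' with rfl | hg'
      · exact tau_g0.2
      · exact absurd hg' List.not_mem_nil
  rw [← gen_J] at hg
  induction hg using Subgroup.closure_induction with
  | mem x hx => obtain ⟨g, hg, rfl⟩ := hx; exact key g hg
  | one => rw [mul_one, mul_inv_cancel]; exact J.one_mem
  | mul a b _ _ ha hb =>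
    have e : toPerm 7 100 tau * (a * b) * (toPerm 7 100 tau)⁻¹ = (toPerm 7 100 tau * a * (toPerm 7 100 tau)⁻¹) *
        (toPerm 7 100 tau * b * (toPerm 7 100 tau)⁻¹) := by group
    rw [e]; exact J.mul_mem ha hb
  | inv a _ ha =>
    have e : toPerm 7 100 tau * a⁻¹ * (toPerm 7 100 tau)⁻¹ = (toPerm 7 100 tau * a * (toPerm 7 100 tau)⁻¹)⁻¹ := by group
    rw [e]; exact J.inv_mem ha

/-- conjugation by `tau` on `J` -/
noncomputable def tauHom : J →* J where
  toFun g := ⟨toPerm 7 100 tau * g * (toPerm 7 100 tau)⁻¹, tau_norm g.2⟩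
  map_one' := Subtype.ext (by
    show toPerm 7 100 tau * 1 * (toPerm 7 100 tau)⁻¹ = 1
    rw [mul_one, mul_inv_cancel])
  map_mul' a b := Subtype.ext (by
    show toPerm 7 100 tau * ((a : Equiv.Perm (Fin 100)) * b) * (toPerm 7 100 tau)⁻¹ =
      (toPerm 7 100 tau * a * (toPerm 7 100 tau)⁻¹) * (toPerm 7 100 tau * b * (toPerm 7 100 tau)⁻¹)
    group)

theorem tauHom_inj : Function.Injective tauHom := by
  intro a b h
  have h1 : toPerm 7 100 tau * (a : Equiv.Perm (Fin 100)) * (toPerm 7 100 tau)⁻¹ = toPerm 7 100 tau * b * (toPerm 7 100 tau)⁻¹ :=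
    congrArg Subtype.val h
  exact Subtype.ext (mul_left_cancel (mul_right_cancel h1))

/-- the outer automorphism -/
noncomputable def tauAut : MulAut J :=
  MulEquiv.ofBijective tauHom (by
    have : Finite J := finJ
    exact Finite.injective_iff_bijective.1 tauHom_inj)

theorem tauAut_X0 : tauAut X0 = X0 := by
  apply Subtype.ext
  show toPerm 7 100 tau * toPerm 7 100 x0 * (toPerm 7 100 tau)⁻¹ = toPerm 7 100 x0
  rw [mul_inv_eq_iff_eq_mul]
  exact (tcomm_iff tau_ok.1 x0_ok.1).1 tau_x0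

theorem tauAut_Y0 : tauAut Y0 = Y1 := by
  apply Subtype.ext
  show toPerm 7 100 tau * toPerm 7 100 y0 * (toPerm 7 100 tau)⁻¹ = toPerm 7 100 y1
  rw [mul_inv_eq_iff_eq_mul, ← toPerm_tmul tau_ok.1 y0_ok.1, tau_y0, toPerm_tmul y1_ok.1 tau_ok.1]

/-- a permutation centralising `J` is trivial -/
theorem cent_trivial {c : Equiv.Perm (Fin 100)} (h : ∀ g ∈ J, c * g = g * c) : c = 1 := by
  have h0 : c 0 = 0 := by
    by_contra hne
    have h1 := (nall_iff _ _).1 nofix (c 0) (c 0).2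
    split at h1
    · rename_i h2
      exact hne (Fin.ext (Nat.eq_of_beq_eq_true h2))
    · rw [lany_iff] at h1
      obtain ⟨g, hg, h2⟩ := h1
      have hgv := (inGrp1 hg)
      have hgJ : toPerm 7 100 g ∈ J := concl0.le hgv.2
      have hst : (⟨_, hgJ⟩ : J) ∈ stabilizer J (0 : Fin 100) := (stab_J _).2 hgv.2
      have h3 : toPerm 7 100 g (0 : Fin 100) = 0 := hst
      have h4 : toPerm 7 100 g (c 0) = c 0 := by
        have h5 := congrArg (fun σ : Equiv.Perm (Fin 100) => σ 0) (h _ hgJ)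
        have h6 : c (toPerm 7 100 g 0) = toPerm 7 100 g (c 0) := h5
        rw [h3] at h6; exact h6.symm
      have h7 : tget 7 g (c 0 : Fin 100) = (c 0 : Fin 100) := by
        rw [← toPerm_apply hgv.1, h4]
      split at h2
      · exact absurd h2 Bool.false_ne_true
      · rename_i h8
        rw [h7, Nat.beq_refl] at h8
        exact absurd h8 (by decide)
  ext1 x
  obtain ⟨g, hg⟩ := exists_smul_eq J (0 : Fin 100) x
  have h5 := congrArg (fun σ : Equiv.Perm (Fin 100) => σ 0) (h g g.2)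
  have h6 : c ((g : Equiv.Perm (Fin 100)) 0) = (g : Equiv.Perm (Fin 100)) (c 0) := h5
  have h7 : (g : Equiv.Perm (Fin 100)) 0 = x := hg
  rw [h0, h7] at h6
  rw [h6]; rfl

theorem tau_not_mem : toPerm 7 100 tau ∉ J := by
  intro hm
  obtain ⟨h1, h2, k7, k8, k10, k12, k15⟩ := tau_pt
  have hf : ∀ x : Fin 100, (fun x => tget 7 tau x) (x : ℕ) = ((toPerm 7 100 tau x : Fin 100) : ℕ) := fun x =>
    (toPerm_apply tau_ok.1 x).symm
  have key : ∀ j : ℕ, (⟨_, hm⟩ : J) ^ j = 1 → (fun x => tget 7 tau x)^[j] pt14 = pt14 := by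
    intro j hj
    have h3 := iterate_tab (w := 7) (f := fun x => tget 7 tau x) hf j ⟨pt14, h2⟩
    have h4 : toPerm 7 100 tau ^ j = 1 := congrArg Subtype.val hj
    rw [h4] at h3
    exact h3.symm
  rcases ord_J ⟨_, hm⟩ with h | h | h | h | h
  · exact k7 (key _ h)
  · exact k8 (key _ h)
  · exact k10 (key _ h)
  · exact k12 (key _ h)
  · exact k15 (key _ h)

theorem tauAut_not_inner : tauAut ∉ Cfsg.Inn J := by
  rintro ⟨g, hg⟩
  apply tau_not_mem
  have h1 : (g : Equiv.Perm (Fin 100))⁻¹ * toPerm 7 100 tau = 1 := by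
    apply cent_trivial
    intro h hh
    have h2 : MulAut.conj g ⟨h, hh⟩ = tauAut ⟨h, hh⟩ := by rw [hg]
    have h3 : (g : Equiv.Perm (Fin 100)) * h * (g : Equiv.Perm (Fin 100))⁻¹ = toPerm 7 100 tau * h * (toPerm 7 100 tau)⁻¹ :=
      congrArg Subtype.val h2
    have h4 : toPerm 7 100 tau * h = (g : Equiv.Perm (Fin 100)) * h * (g : Equiv.Perm (Fin 100))⁻¹ * toPerm 7 100 tau := by
      rw [h3]; group
    rw [mul_assoc, h4]; group
  have h2 : toPerm 7 100 tau = g := (inv_mul_eq_one.1 h1).symm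
  rw [h2]; exact g.2

theorem eq_of_gen {α β : MulAut J} (hx : α X0 = β X0) (hy : α Y0 = β Y0) : α = β := by
  have h : (α : J →* J) = (β : J →* J) := by
    apply MonoidHom.eq_of_eqOn_dense closure_XY
    intro z hz
    rcases hz with rfl | hz
    · exact hx
    · rw [Set.mem_singleton_iff] at hz
      rw [hz]; exact hy
  ext1 z
  exact congrArg (fun f : J →* J => f z) h

theorem Y0_rel : (X0 ^ 3 * Y0) ^ 5 = 1 := by
  have h := y0_rel
  obtain ⟨j, hj, hfix⟩ := walkT_spec (n := 100) x03_ok.1 y0_ok.1 h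
  have hj5 : j = 5 := by
    have h32 : (32 : ℕ) = 2 ^ 5 := by norm_num
    rw [h32, Nat.testBit_two_pow] at hj
    have := of_decide_eq_true hj
    omega
  subst hj5
  apply Subtype.ext
  show (toPerm 7 100 x0 ^ 3 * toPerm 7 100 y0) ^ 5 = 1
  rw [← x03_eq]
  apply eq_one_of_base (w := 7) (n := 100) (idt := idt) (by norm_num) hid chain chk
  · rw [x03_eq]
    exact J.pow_mem (J.mul_mem (J.pow_mem X0.2 3) Y0.2) _
  · intro lev hlev hb
    have hbs : lev.b ∈ [0, 1, 2, 37] := by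
      have hc : chain = [lev0, lev1, lev2, lev3] := rfl
      rw [hc] at hlev
      rcases List.mem_cons.1 hlev with rfl | hlev
      · decide
      · rcases List.mem_cons.1 hlev with rfl | hlev
        · decide
        · rcases List.mem_cons.1 hlev with rfl | hlev
          · decide
          · rcases List.mem_cons.1 hlev with rfl | hlev
            · decide
            · exact absurd hlev List.not_mem_nil
    exact hfix _ hbs hb

theorem aut_cases (α : MulAut J) : ∃ g : J, α = MulAut.conj g ∨ α = MulAut.conj g * tauAut := by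
  obtain ⟨g, hg⟩ := X0_conj (α X0) (by
    have : orderOf (α X0) = orderOf X0 := MulEquiv.orderOf_eq α X0
    rw [this, orderOf_X0])
  set β : MulAut J := MulAut.conj g * α with hβ
  have hβX : β X0 = X0 := hg
  have h1 := aut_Cls β Y0_conj
  have h5 : (X0 ^ 3 * β Y0) ^ 5 = 1 := by
    have h := congrArg β Y0_rel
    rw [map_pow, map_mul, map_pow, hβX, map_one] at h
    exact h
  obtain ⟨x, hx, hy⟩ := cls_key h1 h5
  have hα : α = (MulAut.conj g)⁻¹ * β := by rw [hβ, inv_mul_cancel_left]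
  rcases hy with hy | hy
  · have h2 : β = MulAut.conj x := by
      apply eq_of_gen
      · rw [hβX]
        show X0 = x * X0 * x⁻¹
        rw [hx]; group
      · exact hy.symm
    refine ⟨g⁻¹ * x, Or.inl ?_⟩
    rw [hα, h2, map_mul, map_inv]
  · have h2 : β = MulAut.conj x * tauAut := by
      apply eq_of_gen
      · rw [hβX]
        show X0 = x * tauAut X0 * x⁻¹
        rw [tauAut_X0, hx]; group
      · show β Y0 = x * tauAut Y0 * x⁻¹
        rw [tauAut_Y0]; exact hy.symm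
    refine ⟨g⁻¹ * x, Or.inr ?_⟩
    rw [hα, h2, map_mul, map_inv, mul_assoc]

theorem card_out_J : Nat.card (Cfsg.Out J) = 2 := by
  rw [Nat.card_eq_two_iff' (1 : Cfsg.Out J)]
  refine ⟨QuotientGroup.mk tauAut, ?_, ?_⟩
  · intro h
    exact tauAut_not_inner ((QuotientGroup.eq_one_iff _).1 h)
  · intro y hy
    obtain ⟨α, rfl⟩ := QuotientGroup.mk_surjective y
    obtain ⟨g, h | h⟩ := aut_cases α
    · exfalso
      apply hy
      rw [QuotientGroup.eq_one_iff, h]
      exact ⟨g, rfl⟩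
    · have h1 : (QuotientGroup.mk (MulAut.conj g) : Cfsg.Out J) = 1 := (QuotientGroup.eq_one_iff _).2 ⟨g, rfl⟩
      rw [h, QuotientGroup.mk_mul, h1, one_mul]

end Cfsg.Agent.J2Tab
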