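import Cfsg.Agent.PermTab.Walk
import Cfsg.Agent.PermTab.J2
import Cfsg.Agent.PermTab.J2C
import Cfsg.Agent.Uni.SU

/-!
# The point stabiliser of J2 is PSU(3,3) (owner: helper7)
-/

set_option autoImplicit false

namespace Cfsg.Agent.J2Tab

open Cfsg Cfsg.Agent.PermTab MulAction Matrix

/-- Model of the field with nine elements. -/
abbrev F9 := QuadraticAlgebra (ZMod 3) 2 0

instance f9Fact : Fact (∀ r : ZMod 3, r ^ 2 ≠ 2 + 0 * r) := ⟨by decide⟩

instance f9Fintype : Fintype F9 := Fintype.ofEquiv _ (QuadraticAlgebra.equivProd (2 : ZMod 3) 0).symm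

theorem card_f9 : Fintype.card F9 = 9 := by
  rw [Fintype.card_congr (QuadraticAlgebra.equivProd (2 : ZMod 3) 0), Fintype.card_prod, ZMod.card]

/-- matrix of generator `g2` -/
def M2 : Matrix (Fin 3) (Fin 3) F9 := !![⟨1, 0⟩, ⟨1, 1⟩, ⟨0, 1⟩; ⟨1, 1⟩, ⟨1, 0⟩, ⟨0, 1⟩; ⟨2, 0⟩, ⟨2, 0⟩, ⟨1, 2⟩]

/-- matrix of generator `g3` -/
def M3 : Matrix (Fin 3) (Fin 3) F9 := !![⟨2, 1⟩, ⟨1, 0⟩, ⟨2, 0⟩; ⟨0, 2⟩, ⟨1, 1⟩, ⟨0, 2⟩; ⟨1, 0⟩, ⟨2, 0⟩, ⟨1, 2⟩]

/-- matrix of generator `g4` -/
def M4 : Matrix (Fin 3) (Fin 3) F9 := !![⟨1, 1⟩, ⟨0, 0⟩, ⟨1, 1⟩; ⟨0, 1⟩, ⟨1, 2⟩, ⟨0, 2⟩; ⟨1, 0⟩, ⟨1, 1⟩, ⟨2, 0⟩]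

/-- matrix of generator `g5` -/
def M5 : Matrix (Fin 3) (Fin 3) F9 := !![⟨2, 1⟩, ⟨0, 1⟩, ⟨2, 0⟩; ⟨0, 0⟩, ⟨2, 2⟩, ⟨2, 1⟩; ⟨1, 2⟩, ⟨0, 1⟩, ⟨2, 0⟩]

/-- vectors of the points: base 9 digits -/
def vecT : List ℕ := [0, 0, 0, 0, 0, 0, 0, 0, 0, 0, 0, 0, 0, 0, 0, 0, 0, 0, 0, 0, 0, 0, 0, 0, 0, 0, 0, 0, 0, 0, 0, 0, 0, 0, 0, 0, 0, 244, 487, 81, 1, 226, 208, 199, 595, 379, 478, 694, 586, 334, 469, 721, 235, 577, 343, 451, 685, 622, 352, 442, 712, 163, 703, 415, 397, 604, 676, 424, 361, 640, 658, 433, 388, 613, 559, 289, 19, 90, 550, 316, 55, 495, 667, 460, 370, 631, 532, 280, 28, 252, 523, 307, 10, 171, 154, 118, 127, 145, 9, 82]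

/-- digit -/
def dig (n : ℕ) : F9 := ⟨((n % 3 : ℕ) : ZMod 3), ((n / 3 % 3 : ℕ) : ZMod 3)⟩

/-- vector of a point -/
def vec (x : ℕ) : Fin 3 → F9 := ![dig (vecT.getD x 0), dig (vecT.getD x 0 / 9), dig (vecT.getD x 0 / 81)]

/-- A homomorphism from a relation preserved by generators; the target acts. -/
theorem exists_hom_act {G T X A : Type*} [Group G] [Group T] [MulAction G X] [MulAction T A]
    (P : X → Prop) (R : X → A → Bool) (S : Set G) (hS : Subgroup.closure S = ⊤)
    (hf : ∀ s ∈ S, ∃ σ : T, ∀ x, (P (s • x) ↔ P x) ∧ (P x → ∀ a, R (s • x) (σ • a) = R x a))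
    (hsep : ∀ t : T, (∀ x, P x → ∀ a, R x (t • a) = R x a) → t = 1) :
    ∃ φ : G →* T, ∀ g x, P x → ∀ a, R (g • x) (φ g • a) = R x a := by
  classical
  let Γ : Subgroup (G × T) :=
    { carrier := {p | ∀ x, (P (p.1 • x) ↔ P x) ∧ (P x → ∀ a, R (p.1 • x) (p.2 • a) = R x a)}
      one_mem' := by intro x; simp
      mul_mem' := by
        intro p q hp hq x
        refine ⟨?_, ?_⟩
        · rw [Prod.fst_mul, mul_smul, (hp _).1, (hq _).1]
        · intro hx a
          rw [Prod.fst_mul, Prod.snd_mul, mul_smul, mul_smul]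
          rw [(hp _).2 ((hq x).1.2 hx), (hq x).2 hx]
      inv_mem' := by
        intro p hp x
        have h1 : P (p.1⁻¹ • x) ↔ P x := by
          have := (hp (p.1⁻¹ • x)).1
          rw [smul_inv_smul] at this
          exact this.symm
        refine ⟨h1, ?_⟩
        intro hx a
        have h2 := (hp (p.1⁻¹ • x)).2 (h1.2 hx) (p.2⁻¹ • a)
        rw [smul_inv_smul, smul_inv_smul] at h2
        exact h2.symm }
  have huniq : ∀ g : G, ∀ t t' : T, (g, t) ∈ Γ → (g, t') ∈ Γ → t = t' := by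
    intro g t t' h h'
    have h3 : (1, t⁻¹ * t') ∈ Γ := by
      have := Γ.mul_mem (Γ.inv_mem h) h'
      simpa using this
    have h4 : t⁻¹ * t' = 1 := by
      apply hsep
      intro x hx a
      have := (h3 x).2 hx a
      simpa using this
    exact (inv_mul_eq_one.1 h4)
  have hsurj : ∀ g : G, ∃ t : T, (g, t) ∈ Γ := by
    intro g
    have hg : g ∈ (Γ.map (MonoidHom.fst G T)) := by
      have htop : (⊤ : Subgroup G) ≤ Γ.map (MonoidHom.fst G T) := by
        rw [← hS, Subgroup.closure_le]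
        intro s hs
        obtain ⟨σ, h⟩ := hf s hs
        exact ⟨(s, σ), h, rfl⟩
      exact htop trivial
    obtain ⟨⟨g', t⟩, ht, rfl⟩ := hg
    exact ⟨t, ht⟩
  choose φ hφ using hsurj
  refine ⟨{ toFun := φ, map_one' := ?_, map_mul' := ?_ }, ?_⟩
  · exact huniq 1 _ _ (hφ 1) Γ.one_mem
  · intro a b
    exact huniq (a * b) _ _ (hφ _) (Γ.mul_mem (hφ a) (hφ b))
  · intro g x hx a
    exact (hφ g x).2 hx a

theorem cube_add : ∀ x y : F9, (x + y) ^ 3 = x ^ 3 + y ^ 3 := by decide +kernel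

theorem pres_of {M : Matrix (Fin 3) (Fin 3) F9} (h : Mᵀ * (M.map (fun x => x ^ 3)) = 1) : Uni.Pres 3 M := by
  intro u v
  have h1 : (fun i => ((M *ᵥ v) i) ^ 3) = (M.map (fun x => x ^ 3)) *ᵥ (fun i => (v i) ^ 3) := by
    funext i
    simp only [Matrix.mulVec, dotProduct, Fin.sum_univ_three, cube_add, mul_pow, Matrix.map_apply]
  have h2 : ∀ u v : Fin 3 → F9, hermForm 3 F9 3 u v = u ⬝ᵥ (fun i => (v i) ^ 3) := fun u v => rfl
  rw [h2, h2, h1, Matrix.dotProduct_mulVec, ← Matrix.mulVec_transpose, Matrix.mulVec_mulVec]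
  have h3 : (M.map (fun x => x ^ 3))ᵀ * M = 1 := by
    rw [← Matrix.transpose_transpose M, ← Matrix.transpose_mul, Matrix.transpose_transpose, h, Matrix.transpose_one]
  rw [h3, Matrix.one_mulVec]

/-- the special unitary group -/
abbrev SU9 := SU 3 F9 3

theorem su_smul (g : SU9) (v : Fin 3 → F9) : g • v = ((g : Matrix.SpecialLinearGroup (Fin 3) F9) : Matrix (Fin 3) (Fin 3) F9) *ᵥ v := rfl

/-- the relation -/
def RV9 (x : Fin 100) (v : Fin 3 → F9) : Bool := decide (∃ c : F9, v = c • vec x)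

/-- points of the orbit of length 63 -/
def P63 (x : Fin 100) : Prop := mask63.testBit x = true

/-- point stabiliser -/
noncomputable def K1 : Subgroup (Equiv.Perm (Fin 100)) := grp 7 100 [lev1, lev2, lev3]

theorem mask_ok : lall lev1.gens (fun g => nall (fun x => beq2 (mask63.testBit (tget 7 g x)) (mask63.testBit x)) 100) = true := by
  decide +kernel

/-- generator check -/
def Gen9 (M : Matrix (Fin 3) (Fin 3) F9) (g : ℕ) : Prop := ∀ x : Fin 100, mask63.testBit x = true →
  ∃ c : F9, c ≠ 0 ∧ M *ᵥ vec x = c • vec (tget 7 g x)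

theorem gen_case9 {M : Matrix (Fin 3) (Fin 3) F9} {g : ℕ} (hg : g ∈ lev1.gens) (hM : Gen9 M g)
    (hP : Mᵀ * (M.map (fun x => x ^ 3)) = 1) (hd : M.det = 1) {s : K1} (hs : (s : Equiv.Perm (Fin 100)) = toPerm 7 100 g) :
    ∃ σ : SU9, ∀ x : Fin 100, (P63 (s • x) ↔ P63 x) ∧ (P63 x → ∀ v, RV9 (s • x) (σ • v) = RV9 x v) := by
  have hv := (inGrp1 hg).1
  have hsx : ∀ x : Fin 100, ((s • x : Fin 100) : ℕ) = tget 7 g x := by
    intro x
    show (((s : Equiv.Perm (Fin 100)) x : Fin 100) : ℕ) = _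
    rw [hs, toPerm_apply hv]
  refine ⟨Uni.mkSU M (pres_of hP) hd, fun x => ⟨?_, fun hx v => ?_⟩⟩
  · unfold P63
    rw [hsx, beq2_iff.1 ((nall_iff _ _).1 ((lall_iff _ _).1 mask_ok g hg) x x.2)]
  · unfold RV9
    rw [decide_eq_decide]
    obtain ⟨c, hc, e⟩ := hM x hx
    have e' : M *ᵥ vec x = c • vec (s • x : Fin 100) := by rw [hsx]; exact e
    have hsm : (Uni.mkSU M (pres_of hP) hd : SU9) • v = M *ᵥ v := rfl
    rw [hsm]
    constructor
    · rintro ⟨d, h⟩
      refine ⟨d * c⁻¹, ?_⟩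
      have h1 : M *ᵥ v = M *ᵥ ((d * c⁻¹) • vec x) := by
        rw [Matrix.mulVec_smul, e', smul_smul, mul_assoc, inv_mul_cancel₀ hc, mul_one, h]
      have hinj : Function.Injective (M.mulVec) := by
        apply Matrix.mulVec_injective_of_isUnit
        rw [Matrix.isUnit_iff_isUnit_det, hd]; exact isUnit_one
      exact hinj h1
    · rintro ⟨d, rfl⟩
      exact ⟨d * c, by rw [Matrix.mulVec_smul, e', smul_smul]⟩

set_option maxRecDepth 100000 in
theorem m2_ok : Gen9 M2 g2 := by unfold Gen9; decide +kernel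
set_option maxRecDepth 100000 in
theorem m3_ok : Gen9 M3 g3 := by unfold Gen9; decide +kernel
set_option maxRecDepth 100000 in
theorem m4_ok : Gen9 M4 g4 := by unfold Gen9; decide +kernel
set_option maxRecDepth 100000 in
theorem m5_ok : Gen9 M5 g5 := by unfold Gen9; decide +kernel

/-- generating set -/
def S9 : Set K1 := {s | ∃ g ∈ lev1.gens, (s : Equiv.Perm (Fin 100)) = toPerm 7 100 g}

theorem gens9 : ∀ s ∈ S9, ∃ σ : SU9, ∀ x : Fin 100, (P63 (s • x) ↔ P63 x) ∧ (P63 x → ∀ v, RV9 (s • x) (σ • v) = RV9 x v) := by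
  rintro s ⟨g, hg, hs⟩
  have hl : lev1.gens = [g2, g3, g4, g5] := rfl
  have hg' := hg
  rw [hl] at hg'
  rcases List.mem_cons.1 hg' with rfl | hg'
  · exact gen_case9 hg m2_ok (by decide +kernel) (by decide +kernel) hs
  · rcases List.mem_cons.1 hg' with rfl | hg'
    · exact gen_case9 hg m3_ok (by decide +kernel) (by decide +kernel) hs
    · rcases List.mem_cons.1 hg' with rfl | hg'
      · exact gen_case9 hg m4_ok (by decide +kernel) (by decide +kernel) hs
      · rcases List.mem_cons.1 hg' with rfl | hg'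
        · exact gen_case9 hg m5_ok (by decide +kernel) (by decide +kernel) hs
        · exact absurd hg' List.not_mem_nil

theorem closure9 : Subgroup.closure S9 = ⊤ := by
  rw [eq_top_iff]
  intro x _
  have h : K1 ≤ (Subgroup.closure S9).map K1.subtype := by
    have hK : K1 = Subgroup.closure {x | ∃ g ∈ lev1.gens, x = toPerm 7 100 g} := rfl
    conv_lhs => rw [hK]
    rw [Subgroup.closure_le]
    rintro _ ⟨g, hg, rfl⟩
    exact ⟨⟨toPerm 7 100 g, (inGrp1 hg).2⟩, Subgroup.subset_closure ⟨g, hg, rfl⟩, rfl⟩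
  obtain ⟨y, hy, he⟩ := h x.2
  have : y = x := Subtype.ext he
  rwa [this] at hy

theorem sep9 (t : SU9) (h : ∀ x : Fin 100, P63 x → ∀ v, RV9 x (t • v) = RV9 x v) : t = 1 := by
  set T := ((t : Matrix.SpecialLinearGroup (Fin 3) F9) : Matrix (Fin 3) (Fin 3) F9) with hT
  have key : ∀ x : Fin 100, P63 x → ∃ c : F9, T *ᵥ vec x = c • vec x := by
    intro x hx
    have h1 := h x hx (vec x)
    have h2 : RV9 x (vec x) = true := decide_eq_true ⟨1, by rw [one_smul]⟩
    rw [h2] at h1
    exact of_decide_eq_true h1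
  have v0 : vec (40 : Fin 100) = ![1, 0, 0] := by decide +kernel
  have v1 : vec (98 : Fin 100) = ![0, 1, 0] := by decide +kernel
  have v2 : vec (39 : Fin 100) = ![0, 0, 1] := by decide +kernel
  have v01 : vec (92 : Fin 100) = ![1, 1, 0] := by decide +kernel
  have v12 : vec (77 : Fin 100) = ![0, 1, 1] := by decide +kernel
  obtain ⟨a, ha⟩ := key 40 (by unfold P63; decide)
  obtain ⟨b, hb⟩ := key 98 (by unfold P63; decide)
  obtain ⟨c, hc⟩ := key 39 (by unfold P63; decide)
  obtain ⟨d, hd⟩ := key 92 (by unfold P63; decide)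
  obtain ⟨e, he⟩ := key 77 (by unfold P63; decide)
  rw [v0] at ha
  rw [v1] at hb
  rw [v2] at hc
  rw [v01] at hd
  rw [v12] at he
  have hT' : ∀ (v : Fin 3 → F9) (i : Fin 3), (T *ᵥ v) i = T i 0 * v 0 + T i 1 * v 1 + T i 2 * v 2 := by
    intro v i
    simp only [Matrix.mulVec, dotProduct, Fin.sum_univ_three]
  have A : ∀ i, _ := fun i => (hT' ![1, 0, 0] i).symm.trans (congrFun ha i)
  have B : ∀ i, _ := fun i => (hT' ![0, 1, 0] i).symm.trans (congrFun hb i)
  have C : ∀ i, _ := fun i => (hT' ![0, 0, 1] i).symm.trans (congrFun hc i)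
  have D : ∀ i, _ := fun i => (hT' ![1, 1, 0] i).symm.trans (congrFun hd i)
  have E : ∀ i, _ := fun i => (hT' ![0, 1, 1] i).symm.trans (congrFun he i)
  have a0 := A 0; have a1 := A 1; have a2 := A 2
  have b0 := B 0; have b1 := B 1; have b2 := B 2
  have c0 := C 0; have c1 := C 1; have c2 := C 2
  have d0 := D 0; have d1 := D 1
  have e1 := E 1; have e2 := E 2
  simp at a0 a1 a2 b0 b1 b2 c0 c1 c2 d0 d1 e1 e2
  rw [a0, b0, add_zero] at d0
  rw [a1, b1, zero_add] at d1
  rw [b1, c1, add_zero] at e1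
  rw [b2, c2, zero_add] at e2
  have hab : a = b := d0.trans d1.symm
  have hbc : b = c := e1.trans e2.symm
  have hTa : T = Matrix.diagonal (fun _ => a) := by
    refine Matrix.ext fun i j => ?_
    fin_cases i <;> fin_cases j <;> simp [Matrix.diagonal, a0, a1, a2, b0, b1, b2, c0, c1, c2, ← hab, ← hbc]
  have hdet : T.det = 1 := (t : Matrix.SpecialLinearGroup (Fin 3) F9).2
  rw [hTa, Matrix.det_diagonal, Fin.prod_univ_three] at hdet
  have ha1 : a = 1 := by
    have : ∀ a : F9, a * a * a = 1 → a = 1 := by decide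
    exact this a hdet
  apply Uni.SU_ext
  show T = 1
  rw [hTa, ha1]
  exact Matrix.diagonal_one

theorem exists_hom9 : ∃ φ : K1 →* SU9, ∀ (g : K1) (x : Fin 100), P63 x → ∀ v, RV9 (g • x) (φ g • v) = RV9 x v :=
  exists_hom_act P63 RV9 S9 closure9 gens9 sep9

theorem vec_ne {x : Fin 100} (hx : P63 x) : vec x ≠ 0 := by
  have h : ∀ x : Fin 100, mask63.testBit x = true → vec x ≠ 0 := by decide +kernel
  exact h x hx

set_option maxRecDepth 100000 in
theorem vec_sep : ∀ x : Fin 100, mask63.testBit x = true → ∀ y : Fin 100, mask63.testBit y = true →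
    ∀ c : F9, vec x = c • vec y → x = y := by
  have h : ∀ x y : Fin 100, mask63.testBit x = true → mask63.testBit y = true → x ≠ y → vecT.getD x 0 ≠ vecT.getD y 0 := by
    decide +kernel
  have h1 : ∀ x : Fin 100, mask63.testBit x = true → (vec x 0 = 1 ∨ (vec x 0 = 0 ∧ vec x 1 = 1) ∨
      (vec x 0 = 0 ∧ vec x 1 = 0 ∧ vec x 2 = 1)) := by decide +kernel
  have h2 : ∀ x y : Fin 100, mask63.testBit x = true → mask63.testBit y = true → vec x = vec y → x = y := by decide +kernel
  intro x hx y hy c hc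
  have e0 : vec x 0 = c * vec y 0 := congrFun hc 0
  have e1 : vec x 1 = c * vec y 1 := congrFun hc 1
  have e2 : vec x 2 = c * vec y 2 := congrFun hc 2
  have hc1 : c = 1 := by
    rcases h1 x hx with a | ⟨a, a'⟩ | ⟨a, a', a''⟩ <;> rcases h1 y hy with b | ⟨b, b'⟩ | ⟨b, b', b''⟩
    · rw [a, b, mul_one] at e0; exact e0.symm
    · rw [a, b, mul_zero] at e0; exact absurd e0 one_ne_zero
    · rw [a, b, mul_zero] at e0; exact absurd e0 one_ne_zero
    · rw [a, b, mul_one] at e0
      rw [a', ← e0, zero_mul] at e1; exact absurd e1 one_ne_zero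
    · rw [a', b', mul_one] at e1; exact e1.symm
    · rw [a', b', mul_zero] at e1; exact absurd e1 one_ne_zero
    · rw [a, b, mul_one] at e0
      rw [a'', ← e0, zero_mul] at e2; exact absurd e2 one_ne_zero
    · rw [a', b', mul_one] at e1
      rw [a'', ← e1, zero_mul] at e2; exact absurd e2 one_ne_zero
    · rw [a'', b'', mul_one] at e2; exact e2.symm
  rw [hc1, one_smul] at hc
  exact h2 x y hx hy hc

/-- elements fixing 37, 41, 38 -/
theorem faith_chk : allE2 7 100 (fun a u => match Nat.beq (tget 7 a (tget 7 u 37)) 37 with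
    | false => true
    | true => match Nat.beq (tget 7 a (tget 7 u 41)) 41 with
      | false => true
      | true => match Nat.beq (tget 7 a (tget 7 u 38)) 38 with
        | false => true
        | true => match Nat.beq (tget 7 a (tget 7 u 1)) 1 with
          | false => false
          | true => Nat.beq (tget 7 a (tget 7 u 2)) 2) [lev1, lev2, lev3] idt = true := by decide +kernel

theorem faith {g : Equiv.Perm (Fin 100)} (hg : g ∈ K1) (h37 : g 37 = 37) (h41 : g 41 = 41) (h38 : g 38 = 38) : g = 1 := by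
  have hv : tvalid 7 100 idt = true := by rw [hid]; exact (toPerm_tid (by norm_num)).1
  obtain ⟨a, u, ha, hu, e, hf⟩ := allE2_spec (by norm_num) hid _ chk1 idt hv faith_chk g hg
  rw [hid, (toPerm_tid (by norm_num)).2, one_mul] at e
  have key : ∀ x : Fin 100, ((g x : Fin 100) : ℕ) = tget 7 a (tget 7 u x) := by
    intro x
    rw [← e]
    show ((toPerm 7 100 a (toPerm 7 100 u x) : Fin 100) : ℕ) = _
    rw [toPerm_apply ha, toPerm_apply hu]
  have k37 : tget 7 a (tget 7 u 37) = 37 := by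
    have := key 37; rw [h37] at this; exact this.symm
  have k41 : tget 7 a (tget 7 u 41) = 41 := by
    have := key 41; rw [h41] at this; exact this.symm
  have k38 : tget 7 a (tget 7 u 38) = 38 := by
    have := key 38; rw [h38] at this; exact this.symm
  rw [k37, k41, k38] at hf
  change (match Nat.beq (tget 7 a (tget 7 u 1)) 1 with
          | false => false
          | true => Nat.beq (tget 7 a (tget 7 u 2)) 2) = true at hf
  split at hf
  · exact absurd hf Bool.false_ne_true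
  rename_i h1
  have g1 : g 1 = 1 := Fin.ext (by rw [key]; exact Nat.eq_of_beq_eq_true h1)
  have g2 : g 2 = 2 := Fin.ext (by rw [key]; exact Nat.eq_of_beq_eq_true hf)
  apply eq_one_of_base (w := 7) (n := 100) (idt := idt) (by norm_num) hid _ chk1 g hg
  intro lev hlev hb
  rcases List.mem_cons.1 hlev with rfl | hlev
  · exact g1
  · rcases List.mem_cons.1 hlev with rfl | hlev
    · exact g2
    · rcases List.mem_cons.1 hlev with rfl | hlev
      · exact h37
      · exact absurd hlev List.not_mem_nil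

theorem card_K1 : Nat.card K1 = 6048 := by
  have h := card_grp (w := 7) (n := 100) (idt := idt) (by norm_num) hid [lev1, lev2, lev3] chk1
  have h2 : chainCard 100 [lev1, lev2, lev3] = 6048 := by decide +kernel
  rw [h2] at h
  exact h

theorem card_SU9 : Nat.card SU9 = 6048 := by
  have h := Uni.card_SU (F := F9) (q := 3) (n := 3) (by rw [card_f9]; norm_num) (by norm_num)
  rw [Finset.prod_range_succ, Finset.prod_range_succ, Finset.prod_range_succ, Finset.prod_range_zero,
    if_pos (by decide : Even 0), if_neg (by decide : ¬ Even 1), if_pos (by decide : Even 2)] at h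
  norm_num at h
  have h2 : 4 * Nat.card SU9 = 24192 := h
  omega

theorem exists_iso9 : Nonempty (K1 ≃* PSU 3 F9 3) := by
  obtain ⟨φ, hφ⟩ := exists_hom9
  have hinj : Function.Injective φ := by
    rw [injective_iff_map_eq_one]
    intro g hg
    have key : ∀ x : Fin 100, P63 x → (g : Equiv.Perm (Fin 100)) x = x := by
      intro x hx
      have h1 := hφ g x hx (vec x)
      rw [hg, one_smul] at h1
      have h2 : RV9 x (vec x) = true := decide_eq_true ⟨1, by rw [one_smul]⟩
      rw [h2] at h1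
      obtain ⟨c, hc⟩ := of_decide_eq_true h1
      have hgx : P63 (g • x) := by
        by_contra hn
        have h0 : ∀ y : Fin 100, ¬ mask63.testBit y = true → vec y = 0 := by decide +kernel
        have h3 := h0 (g • x) hn
        rw [h3, smul_zero] at hc
        exact vec_ne hx hc
      exact (vec_sep x hx _ hgx c hc).symm
    exact Subtype.ext (faith g.2 (key 37 (by unfold P63; decide)) (key 41 (by unfold P63; decide)) (key 38 (by unfold P63; decide)))
  have hF : Fintype.card F9 = 3 ^ 2 := by rw [card_f9]; norm_num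
  have hfin : Finite SU9 := Nat.finite_of_card_ne_zero (by rw [card_SU9]; norm_num)
  have hbij : Function.Bijective φ := by
    have hfinK : Finite K1 := Nat.finite_of_card_ne_zero (by rw [card_K1]; norm_num)
    exact (Nat.bijective_iff_injective_and_card φ).2 ⟨hinj, by rw [card_K1, card_SU9]⟩
  have hc : Subgroup.center SU9 = ⊥ := by
    apply Subgroup.eq_bot_of_card_eq
    rw [Uni.card_center_SU hF (by norm_num)]
    decide
  exact ⟨(MulEquiv.ofBijective φ hbij).trans ((QuotientGroup.quotientBot).symm.trans (QuotientGroup.quotientMulEquivOfEq hc.symm))⟩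

end Cfsg.Agent.J2Tab
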